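import Mathlib

/-!
# `n = 3`: the arithmetic of the signed degrees

`a` is the signed degree of the common member, `p`, `q` and `r`, `r'` of the others; `x`, `y` the signed coefficients
of a side at `p` and at `r`.
-/

set_option autoImplicit false

namespace Cfsg.Lib.GWD.Chr

/-- The conclusions for an invariant character: degrees, sides, values, congruences. -/
structure Rel (a p q r r' : ℤ) (x₁ y₁ x₂ y₂ : ℤ) (K₁ K₂ : ℚ) : Prop where
  deg₁ : a + p + q = 0
  deg₂ : a + r + r' = 0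
  side₁ : (x₁ = 0 ∧ y₁ = 0) ∨ ((x₁ = 1 ∨ x₁ = -1) ∧ (y₁ = 1 ∨ y₁ = -1) ∧ x₁ * (p - q) + y₁ * (r - r') = 0)
  side₂ : (x₂ = 0 ∧ y₂ = 0) ∨ ((x₂ = 1 ∨ x₂ = -1) ∧ (y₂ = 1 ∨ y₂ = -1) ∧ x₂ * (p - q) + y₂ * (r - r') = 0)
  orth : x₁ * x₂ + y₁ * y₂ = 0
  id₁ : 4 / (a : ℚ) + (1 + 2 * ((x₁ : ℚ) + x₂)) ^ 2 / p + (1 - 2 * ((x₁ : ℚ) + x₂)) ^ 2 / q = K₁
  id₂ : 4 / (a : ℚ) + (1 + 2 * ((y₁ : ℚ) + y₂)) ^ 2 / r + (1 - 2 * ((y₁ : ℚ) + y₂)) ^ 2 / r' = K₂

/-- All signed degrees are large. -/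
def Big (a p q r r' : ℤ) : Prop := 12 ≤ |a| ∧ 12 ≤ |p| ∧ 12 ≤ |q| ∧ 12 ≤ |r| ∧ 12 ≤ |r'|

theorem inv_le_twelfth {a : ℤ} (h : 12 ≤ |a|) : 1 / (a : ℚ) ≤ 1 / 12 ∧ -(1 / 12) ≤ 1 / (a : ℚ) := by
  rw [le_abs] at h
  rcases h with h | h
  · have h' : (12 : ℚ) ≤ a := by exact_mod_cast h
    have e := one_div_le_one_div_of_le (by norm_num : (0 : ℚ) < 12) h'
    have : (0 : ℚ) ≤ 1 / a := by positivity
    exact ⟨e, by linarith⟩
  · have h' : (12 : ℚ) ≤ -a := by exact_mod_cast h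
    have e := one_div_le_one_div_of_le (by norm_num : (0 : ℚ) < 12) h'
    have : (0 : ℚ) ≤ 1 / -(a : ℚ) := div_nonneg zero_le_one (by linarith)
    rw [one_div_neg_eq_neg_one_div] at e this
    exact ⟨by linarith, by linarith⟩

/-- The principal character: `K₁ - K₂ ≥ 5/6`, and `K₁ = (b - 1)² / (b (b + 1))`. -/
theorem principal_facts {a b c d : ℤ} {K₁ K₂ : ℚ} (h₁ : a + 1 + b = 0) (h₂ : a + c + d = 0) (ha : 12 ≤ |a|)
    (hb : 12 ≤ |b|) (hc : 12 ≤ |c|) (hd : 12 ≤ |d|) (e₁ : 4 / (a : ℚ) + 1 + 1 / b = K₁)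
    (e₂ : 4 / (a : ℚ) + 1 / c + 1 / d = K₂) :
    5 / 6 ≤ K₁ - K₂ ∧ K₁ * ((b : ℚ) * (b + 1)) = ((b : ℚ) - 1) ^ 2 := by
  refine ⟨?_, ?_⟩
  · have hb' := inv_le_twelfth hb
    have hc' := inv_le_twelfth hc
    have hd' := inv_le_twelfth hd
    rw [← e₁, ← e₂]
    rw [le_abs] at hb hc hd
    have hpos : ∀ z : ℤ, 12 ≤ z → (0 : ℚ) < 1 / z := fun z hz => by
      have : (0 : ℚ) < z := by exact_mod_cast (show (0 : ℤ) < z by omega)
      positivity
    have hneg : ∀ z : ℤ, 12 ≤ -z → 1 / (z : ℚ) < 0 := fun z hz =>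
      one_div_neg.2 (by exact_mod_cast (show z < 0 by omega))
    rcases hb with hb | hb
    · have := hpos b hb; linarith [hc'.1, hd'.1]
    · rcases hc with hc | hc
      · rcases hd with hd | hd
        · omega
        · have := hneg d hd; linarith [hb'.2, hc'.1]
      · have := hneg c hc; linarith [hb'.2, hd'.1]
  · have hb0 : (b : ℚ) ≠ 0 := by
      have : b ≠ 0 := fun e => by rw [e] at hb; norm_num at hb
      exact_mod_cast this
    have hb1 : (b : ℚ) + 1 ≠ 0 := by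
      have : b + 1 ≠ 0 := fun e => by rw [show b = -1 by omega] at hb; norm_num at hb
      exact_mod_cast this
    rw [← e₁, show (a : ℚ) = -((b : ℚ) + 1) by exact_mod_cast (show a = -(b + 1) by omega)]
    field_simp
    ring

/-- No side moves: `K₁` is at most one half. -/
theorem none_le {a p q : ℤ} (ha : 12 ≤ |a|) (hp : 12 ≤ |p|) (hq : 12 ≤ |q|) :
    4 / (a : ℚ) + 1 / p + 1 / q ≤ 1 / 2 := by
  have := (inv_le_twelfth ha).1
  have := (inv_le_twelfth hp).1
  have := (inv_le_twelfth hq).1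
  rw [show (4 : ℚ) / a = 4 * (1 / a) by ring]
  linarith

/-- One side moves, in normal position. -/
theorem one_lt {p q : ℤ} (hp : 12 ≤ |p|) (hq : 12 ≤ |q|) (ha : 12 ≤ |p + q|) (hp4 : p % 4 = 3) (hq4 : q % 4 = 3)
    (h2 : 0 ≤ -(4 / ((p : ℚ) + q)) + 9 / q + 1 / p) : 8 * (1 / (p : ℚ) - 1 / q) < 5 / 6 := by
  have hp' := inv_le_twelfth hp
  have hq' := inv_le_twelfth hq
  rw [le_abs] at hp hq ha
  rcases hp with hp | hp <;> rcases hq with hq | hq
  · have : (0 : ℚ) < 1 / q := by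
      have : (0 : ℚ) < q := by exact_mod_cast (show (0 : ℤ) < q by omega)
      positivity
    linarith [hp'.1]
  · rcases ha with ha | ha
    · exfalso
      have hp0 : (0 : ℚ) < p := by exact_mod_cast (show (0 : ℤ) < p by omega)
      have hq0 : (0 : ℚ) < -q := by exact_mod_cast (show (0 : ℤ) < -q by omega)
      have hs0 : (0 : ℚ) < p + q := by exact_mod_cast (show (0 : ℤ) < p + q by omega)
      have h4 : (0 : ℚ) < 4 / ((p : ℚ) + q) := by positivity
      have h9 : 9 / (q : ℚ) + 1 / p < 0 := by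
        rw [div_add_div _ _ (neg_pos.1 hq0).ne hp0.ne', div_lt_iff_of_neg (mul_neg_of_neg_of_pos (neg_pos.1 hq0) hp0)]
        nlinarith
      linarith
    · have hp15 : (15 : ℚ) ≤ p := by exact_mod_cast (show (15 : ℤ) ≤ p by omega)
      have hq29 : (29 : ℚ) ≤ -q := by exact_mod_cast (show (29 : ℤ) ≤ -q by omega)
      have e1 := one_div_le_one_div_of_le (by norm_num : (0 : ℚ) < 15) hp15
      have e2 := one_div_le_one_div_of_le (by norm_num : (0 : ℚ) < 29) hq29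
      rw [one_div_neg_eq_neg_one_div] at e2
      linarith
  · have : 1 / (p : ℚ) < 0 := one_div_neg.2 (by exact_mod_cast (show p < 0 by omega))
    have : (0 : ℚ) < 1 / q := by
      have : (0 : ℚ) < q := by exact_mod_cast (show (0 : ℤ) < q by omega)
      positivity
    linarith
  · have : 1 / (p : ℚ) < 0 := one_div_neg.2 (by exact_mod_cast (show p < 0 by omega))
    linarith [hq'.2]

/-- The equation of both sides against the principal character has no solution. -/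
theorem both_absurd {b p : ℤ} (hb : 12 ≤ |b|) (hp₁ : 21 ≤ p) (hp₂ : p ≤ 45)
    (h : 32 * (b * (b + 1)) = p * (b - 1) ^ 2) : False := by
  have hcop : IsCoprime ((b - 1) ^ 2) b := IsCoprime.pow_left ⟨-1, 1, by ring⟩
  have hdvd : (b - 1) ^ 2 ∣ 32 * (b + 1) := hcop.dvd_of_dvd_mul_right ⟨p, by rw [show 32 * (b + 1) * b = 32 * (b * (b + 1)) by ring, h]; ring⟩
  have hne : 32 * (b + 1) ≠ 0 := fun e => by rw [show b = -1 by omega] at hb; norm_num at hb
  have hle : (b - 1) ^ 2 ≤ |32 * (b + 1)| := by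
    have := Int.le_of_dvd (abs_pos.2 hne) ((dvd_abs _ _).2 hdvd)
    exact this
  have hlo : -40 ≤ b := by
    by_contra hlt
    push Not at hlt
    rw [abs_of_neg (by omega : 32 * (b + 1) < 0)] at hle
    nlinarith
  have hhi : b ≤ 40 := by
    by_contra hgt
    push Not at hgt
    rw [abs_of_pos (by omega : 0 < 32 * (b + 1))] at hle
    nlinarith
  rw [le_abs] at hb
  rcases hb with hb | hb
  · interval_cases b <;> omega
  · have : b ≤ -12 := by omega
    interval_cases b <;> omega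

/-- The relations are impossible when all degrees are large, given the bounds and what the principal character says. -/
theorem Rel.absurd {a p q r r' x₁ y₁ x₂ y₂ b : ℤ} {K₁ K₂ : ℚ} (h : Rel a p q r r' x₁ y₁ x₂ y₂ K₁ K₂)
    (hbig : Big a p q r r') (hp4 : p % 4 = (1 + 2 * (x₁ + x₂)) % 4) (hq4 : q % 4 = (1 - 2 * (x₁ + x₂)) % 4)
    (hlo : 32 / 45 ≤ K₁) (hhi : K₁ ≤ 32 / 21) (hK₂ : 0 ≤ K₂) (hb : 12 ≤ |b|)
    (hb₁ : K₁ * ((b : ℚ) * (b + 1)) = ((b : ℚ) - 1) ^ 2) (hΦ : 5 / 6 ≤ K₁ - K₂) : False := by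
  obtain ⟨ha, hp, hq, hr, hr'⟩ := hbig
  have hd := h.deg₁
  have hd2 := h.deg₂
  have key : ∀ x y : ℤ, x₁ + x₂ = x → y₁ + y₂ = y → (x = 1 ∨ x = -1) → (y = 1 ∨ y = -1) →
      x * (p - q) + y * (r - r') = 0 → False := by
    intro x y hx hy hx1 hy1 hrel
    have i₁ := h.id₁
    have i₂ := h.id₂
    rw [show (x₁ : ℚ) + x₂ = x by exact_mod_cast hx] at i₁
    rw [show (y₁ : ℚ) + y₂ = y by exact_mod_cast hy] at i₂
    have hap : (a : ℚ) = -((p : ℚ) + q) := by exact_mod_cast (show a = -(p + q) by omega)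
    rw [hap, div_neg] at i₁ i₂
    rcases hx1 with rfl | rfl
    · have hlt := fun h2 => one_lt hp hq (by rw [show p + q = -a by omega, abs_neg]; exact ha) (by omega) (by omega) h2
      have hsub : (y = 1 ∧ r' = p ∧ r = q) ∨ (y = -1 ∧ r = p ∧ r' = q) := by
        rcases hy1 with rfl | rfl <;> omega
      rcases hsub with ⟨rfl, e1, e2⟩ | ⟨rfl, e1, e2⟩ <;> rw [e1, e2] at i₂ <;> norm_num at i₁ i₂
      · have := hlt (by rw [one_div]; linarith)
        linarith [show (9 : ℚ) / p = 9 * (1 / p) by ring, show (9 : ℚ) / q = 9 * (1 / q) by ring,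
          show ((p : ℚ))⁻¹ = 1 / p by rw [one_div], show ((q : ℚ))⁻¹ = 1 / q by rw [one_div]]
      · have := hlt (by rw [one_div]; linarith)
        linarith [show (9 : ℚ) / p = 9 * (1 / p) by ring, show (9 : ℚ) / q = 9 * (1 / q) by ring,
          show ((p : ℚ))⁻¹ = 1 / p by rw [one_div], show ((q : ℚ))⁻¹ = 1 / q by rw [one_div]]
    · have hlt := fun h2 => one_lt hq hp (by rw [show q + p = -a by omega, abs_neg]; exact ha) (by omega) (by omega) h2
      have hsub : (y = 1 ∧ r' = q ∧ r = p) ∨ (y = -1 ∧ r = q ∧ r' = p) := by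
        rcases hy1 with rfl | rfl <;> omega
      rcases hsub with ⟨rfl, e1, e2⟩ | ⟨rfl, e1, e2⟩ <;> rw [e1, e2] at i₂ <;> norm_num at i₁ i₂
      · have := hlt (by rw [one_div, add_comm (q : ℚ)]; linarith)
        linarith [show (9 : ℚ) / p = 9 * (1 / p) by ring, show (9 : ℚ) / q = 9 * (1 / q) by ring,
          show ((p : ℚ))⁻¹ = 1 / p by rw [one_div], show ((q : ℚ))⁻¹ = 1 / q by rw [one_div]]
      · have := hlt (by rw [one_div, add_comm (q : ℚ)]; linarith)
        linarith [show (9 : ℚ) / p = 9 * (1 / p) by ring, show (9 : ℚ) / q = 9 * (1 / q) by ring,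
          show ((p : ℚ))⁻¹ = 1 / p by rw [one_div], show ((q : ℚ))⁻¹ = 1 / q by rw [one_div]]
  rcases h.side₁ with ⟨e1, e2⟩ | ⟨hx1, hy1, hr1⟩ <;> rcases h.side₂ with ⟨e3, e4⟩ | ⟨hx2, hy2, hr2⟩
  · have i₁ := h.id₁
    rw [e1, e3] at i₁
    norm_num at i₁
    have := none_le ha hp hq
    rw [one_div, one_div] at this
    linarith
  · exact key x₂ y₂ (by omega) (by omega) hx2 hy2 hr2
  · exact key x₁ y₁ (by omega) (by omega) hx1 hy1 hr1
  · -- both sides
    have ho := h.orth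
    have hpq : p = q ∧ r = r' := by
      rcases hx1 with rfl | rfl <;> rcases hy1 with rfl | rfl <;> rcases hx2 with rfl | rfl <;>
        rcases hy2 with rfl | rfl <;> omega
    obtain ⟨rfl, rfl⟩ := hpq
    obtain rfl : r = p := by omega
    have i₁ := h.id₁
    have hap : (a : ℚ) = -2 * (r : ℚ) := by exact_mod_cast (show a = -2 * r by omega)
    have hr0 : (r : ℚ) ≠ 0 := by
      have : r ≠ 0 := fun e => by rw [e] at hp; norm_num at hp
      exact_mod_cast this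
    rw [hap] at i₁
    have hX : ((x₁ : ℚ) + x₂) = 0 ∨ ((x₁ : ℚ) + x₂) ^ 2 = 4 := by
      rcases hx1 with rfl | rfl <;> rcases hx2 with rfl | rfl <;> norm_num
    have hKr : K₁ * r = 8 * ((x₁ : ℚ) + x₂) ^ 2 := by
      rw [← i₁]
      field_simp
      ring
    rcases hX with e | e
    · rw [e] at hKr
      norm_num at hKr
      rcases hKr with h0 | h0
      · linarith
      · rw [h0] at hp; norm_num at hp
    · rw [e] at hKr
      have hr0' : (0 : ℚ) < r := by nlinarith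
      refine both_absurd (b := b) (p := r) hb ?_ ?_ ?_
      · exact_mod_cast (show (21 : ℚ) ≤ r by nlinarith)
      · exact_mod_cast (show (r : ℚ) ≤ 45 by nlinarith)
      · exact_mod_cast (show (32 : ℚ) * ((b : ℚ) * (b + 1)) = r * ((b : ℚ) - 1) ^ 2 by
          linear_combination (r : ℚ) * hb₁ - ((b : ℚ) * (b + 1)) * hKr)

end Cfsg.Lib.GWD.Chr
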