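import Cfsg.Agent.GWDihedral.Chars.Three.Five
import Cfsg.Agent.GWDihedral.Chars.Three.Arith

/-!
# `n = 3`: the relations between the five members
-/

set_option autoImplicit false
set_option linter.unusedSectionVars false
set_option linter.style.haveILetI false

namespace Cfsg.Lib.GWD.Chr

open Cfsg Cfsg.Lib.Chars Cfsg.Lib.Blocks
open scoped ComplexConjugate

universe u

section Pure

variable {ι : Type*} [Fintype ι]

/-- Two vectors of norm three and product one with equal signs where they meet. -/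
theorem exists_five {c d : ι → ℤ} (hc : ∀ i, c i = 0 ∨ c i = 1 ∨ c i = -1) (hd : ∀ i, d i = 0 ∨ d i = 1 ∨ d i = -1)
    (hcc : ∑ i, c i * c i = 3) (hdd : ∑ i, d i * d i = 3) (hcd : ∑ i, c i * d i = 1)
    (hne : ∀ i, c i ≠ 0 → d i ≠ 0 → c i = d i) :
    ∃ A P Q R R' : ι, (c A ≠ 0 ∧ d A = c A) ∧ (c P ≠ 0 ∧ d P = 0) ∧ (c Q ≠ 0 ∧ d Q = 0) ∧ (c R = 0 ∧ d R ≠ 0) ∧
      (c R' = 0 ∧ d R' ≠ 0) ∧ P ≠ Q ∧ R ≠ R' ∧
      (∀ i, c i ≠ 0 → i = A ∨ i = P ∨ i = Q) ∧ (∀ i, d i ≠ 0 → i = A ∨ i = R ∨ i = R') := by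
  classical
  set S := Finset.univ.filter fun i => c i ≠ 0 with hS
  set T := Finset.univ.filter fun i => d i ≠ 0 with hT
  have hsq : ∀ (f : ι → ℤ), (∀ i, f i = 0 ∨ f i = 1 ∨ f i = -1) →
      ∑ i, f i * f i = ((Finset.univ.filter fun i => f i ≠ 0).card : ℤ) := fun f hf => by
    rw [← Finset.sum_boole]
    exact Finset.sum_congr rfl fun i _ => by rcases hf i with e | e | e <;> simp [e]
  have hScard : S.card = 3 := by have := hsq c hc; rw [hcc] at this; exact_mod_cast this.symm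
  have hTcard : T.card = 3 := by have := hsq d hd; rw [hdd] at this; exact_mod_cast this.symm
  have hI : ((S ∩ T).card : ℤ) = 1 := by
    rw [← hcd, hS, hT, ← Finset.filter_and, ← Finset.sum_boole]
    refine Finset.sum_congr rfl fun i _ => ?_
    by_cases h1 : c i = 0
    · simp [h1]
    by_cases h2 : d i = 0
    · simp [h2]
    rw [if_pos ⟨h1, h2⟩, ← hne i h1 h2]
    rcases hc i with e | e | e
    · exact absurd e h1
    all_goals simp [e]
  obtain ⟨A, hA⟩ := Finset.card_eq_one.1 (show (S ∩ T).card = 1 by exact_mod_cast hI)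
  have hA' : A ∈ S ∧ A ∈ T := Finset.mem_inter.1 (hA ▸ Finset.mem_singleton_self A)
  have hcA := (Finset.mem_filter.1 hA'.1).2
  have hdA := (Finset.mem_filter.1 hA'.2).2
  obtain ⟨P, Q, hPQ, hS'⟩ := Finset.card_eq_two.1 (show (S.erase A).card = 2 by
    rw [Finset.card_erase_of_mem hA'.1, hScard])
  obtain ⟨R, R', hRR, hT'⟩ := Finset.card_eq_two.1 (show (T.erase A).card = 2 by
    rw [Finset.card_erase_of_mem hA'.2, hTcard])
  have hexS : ∀ i ∈ S.erase A, c i ≠ 0 ∧ d i = 0 := fun i hi => by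
    refine ⟨(Finset.mem_filter.1 (Finset.mem_of_mem_erase hi)).2, ?_⟩
    by_contra h
    exact Finset.ne_of_mem_erase hi (Finset.mem_singleton.1 (hA ▸ Finset.mem_inter.2
      ⟨Finset.mem_of_mem_erase hi, Finset.mem_filter.2 ⟨Finset.mem_univ _, h⟩⟩))
  have hexT : ∀ i ∈ T.erase A, c i = 0 ∧ d i ≠ 0 := fun i hi => by
    refine ⟨?_, (Finset.mem_filter.1 (Finset.mem_of_mem_erase hi)).2⟩
    by_contra h
    exact Finset.ne_of_mem_erase hi (Finset.mem_singleton.1 (hA ▸ Finset.mem_inter.2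
      ⟨Finset.mem_filter.2 ⟨Finset.mem_univ _, h⟩, Finset.mem_of_mem_erase hi⟩))
  refine ⟨A, P, Q, R, R', ⟨hcA, (hne A hcA hdA).symm⟩, hexS P (by simp [hS']), hexS Q (by simp [hS']),
    hexT R (by simp [hT']), hexT R' (by simp [hT']), hPQ, hRR, fun i hi => ?_, fun i hi => ?_⟩
  · by_cases h : i = A
    · exact Or.inl h
    · have : i ∈ S.erase A := Finset.mem_erase.2 ⟨h, Finset.mem_filter.2 ⟨Finset.mem_univ _, hi⟩⟩
      rw [hS', Finset.mem_insert, Finset.mem_singleton] at this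
      exact Or.inr this
  · by_cases h : i = A
    · exact Or.inl h
    · have : i ∈ T.erase A := Finset.mem_erase.2 ⟨h, Finset.mem_filter.2 ⟨Finset.mem_univ _, hi⟩⟩
      rw [hT', Finset.mem_insert, Finset.mem_singleton] at this
      exact Or.inr this

theorem sum_three {M : Type*} [AddCommMonoid M] (F : ι → M) {A P Q : ι} (h1 : A ≠ P) (h2 : A ≠ Q) (h3 : P ≠ Q)
    (h : ∀ i, F i ≠ 0 → i = A ∨ i = P ∨ i = Q) : ∑ i, F i = F A + F P + F Q := by
  classical
  rw [← Finset.sum_subset (Finset.subset_univ {A, P, Q}) fun i _ hi => by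
    by_contra hne
    simp only [Finset.mem_insert, Finset.mem_singleton] at hi
    exact hi (h i hne), Finset.sum_insert (by simp [h1, h2]), Finset.sum_pair h3, add_assoc]

theorem sum_four {M : Type*} [AddCommMonoid M] (F : ι → M) {P Q R R' : ι} (h1 : P ≠ Q) (h2 : P ≠ R) (h3 : P ≠ R')
    (h4 : Q ≠ R) (h5 : Q ≠ R') (h6 : R ≠ R') (h : ∀ i, F i ≠ 0 → i = P ∨ i = Q ∨ i = R ∨ i = R') :
    ∑ i, F i = F P + F Q + F R + F R' := by
  classical
  rw [← Finset.sum_subset (Finset.subset_univ {P, Q, R, R'}) fun i _ hi => by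
    by_contra hne
    simp only [Finset.mem_insert, Finset.mem_singleton] at hi
    exact hi (h i hne), Finset.sum_insert (by simp [h1, h2, h3]), Finset.sum_insert (by simp [h4, h5]),
    Finset.sum_pair h6]
  simp only [add_assoc]

end Pure

variable {G : Type u} [Group G] [Fintype G] {F : Frame G} [Fintype F.O] {M : Ideal AlgInt}

/-- `χ(1) ≡ χ(t)` modulo four. -/
theorem deg_mod_four (hall : ∀ x : G, orderOf x = 2 → IsConj F.t x) (χ : IrrCharacter G) {v : ℤ}
    (hv : (χ : G → ℂ) F.t = (v : ℂ)) : (4 : ℤ) ∣ (deg (χ : G → ℂ) : ℤ) - v := by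
  classical
  set V := F.four₁ with hV
  letI : Fintype V.U := Fintype.ofFinite _
  obtain ⟨k, hk⟩ := classInner_char_nat (IsCharacter.restrict (isCharacter_of_irr χ.2) V.U)
    (isCharacter_of_irr (principal V.U).2)
  have hval : ∀ u : V.U, (u : G) ≠ 1 → (χ : G → ℂ) u = v := by
    intro u hu
    have hu2 : orderOf (u : G) = 2 := by
      refine orderOf_eq_prime ?_ hu
      rw [pow_two]
      rcases V.mem_U.1 u.2 with e | e | e | e
      · exact absurd e hu
      · rw [e]; exact Cfsg.Lib.GenDihedral.mul_self_of_two V.t_order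
      · rw [e]; exact V.u_sq
      · rw [e]; exact V.v_sq
    obtain ⟨g, hg⟩ := isConj_iff.1 (hall _ hu2)
    rw [← hg, isClassFunction_irr χ, hv]
  have h4 : Fintype.card V.U = 4 := by rw [← Nat.card_eq_fintype_card]; exact V.card_U
  rw [classInner_def, ← Finset.add_sum_erase _ _ (Finset.mem_univ (1 : V.U))] at hk
  rw [Finset.sum_congr rfl (g := fun _ => (v : ℂ)) fun u hu => by
    rw [hval u fun e => Finset.ne_of_mem_erase hu (Subtype.ext e), principal_val (G := V.U), map_one, mul_one],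
    Finset.sum_const, Finset.card_erase_of_mem (Finset.mem_univ _), Finset.card_univ, h4, V.card_U,
    principal_val (G := V.U), map_one, mul_one, Subgroup.coe_one, irr_apply_one_eq_deg] at hk
  refine ⟨(k : ℤ) - v, ?_⟩
  apply Int.cast_injective (α := ℂ)
  push_cast
  norm_num at hk
  linear_combination 4 * hk

variable [Fintype F.C] {f : ↥F.O →* ℂˣ} (E : Ext F (lin f)) {g₁ g₂ : ↥F.O →* ℂˣ}

open scoped _root_.Classical in
theorem ecoef_facts (hM : IsPModular 2 M) (hn : F.n = 3) (hf : InvD F F.S (lin f : F.O → ℂ)) {P : Side F}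
    {g : ↥F.O →* ℂˣ} (hg : IsLift P f g) (hmv : Moved g) :
    (∑ χ : IrrCharacter G, ecoef g χ * ecoef g χ = 4) ∧
      (∀ χ : IrrCharacter G, Odd (mu F χ (lin f)) → Odd (ecoef g χ)) ∧
      (∀ i, ∑ χ : IrrCharacter G, E.c i χ * ecoef g χ = 0) ∧
      ∑ χ : IrrCharacter G, ecoef g χ * (deg (χ : G → ℂ) : ℤ) = 0 := by
  have he : ∀ χ : IrrCharacter G, ecoef g χ = mu F χ (lin g) := fun χ => by rw [ecoef, if_pos hmv]
  simp only [he]
  refine ⟨sum_sq_of_stab (P.stab_eq hn hg hmv) P.V.card_U, fun χ h => ?_, fun i => ?_, sum_mu_deg F _⟩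
  · have hp := lift_parity P hM hg hf χ
    haveI := charP_res hM
    rw [← Int.not_even_iff_odd, even_iff_two_dvd] at h ⊢
    intro h2
    apply h
    have := (CharP.intCast_eq_zero_iff (Res M) 2 (mu F χ (lin g))).2 (by exact_mod_cast h2)
    rw [hp] at this
    exact_mod_cast (CharP.intCast_eq_zero_iff (Res M) 2 (mu F χ (lin f))).1 this
  · rw [E.sum_c_mu hn, if_neg]
    intro e
    exact hmv (e ▸ ⟨F.s_mem_S, fun a b h => hf F.s F.s_mem_S a b h⟩)

open scoped _root_.Classical in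
theorem ecoef_orth (hn : F.n = 3) (h₁ : IsLift (side₁ F) f g₁) (h₂ : IsLift (side₂ F) f g₂) (hm₁ : Moved g₁)
    (hm₂ : Moved g₂) : ∑ χ : IrrCharacter G, ecoef g₁ χ * ecoef g₂ χ = 0 := by
  letI : Fintype F.S := Fintype.ofFinite _
  simp only [ecoef, if_pos hm₁, if_pos hm₂]
  rw [mu_orth F (lin g₁) (lin g₂), Finset.filter_false_of_mem fun u _ e => ?_]
  · simp
  refine hm₁ (s_mem_stab_of_both ((side₁ F).U_le_stab h₁) (fun w hw => ⟨(side₂ F).U_le hw, ?_⟩))
  rw [← e]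
  exact invD_twist F ((invD_stab F (lin g₂)).mono F ((side₂ F).U_le_stab h₂)) (F.S_le_C u.2)
    ((side₂ F).S_le_norm hn u.2) w hw

theorem ecoef_of_not_moved {g : ↥F.O →* ℂˣ} (h : ¬ Moved g) (χ : IrrCharacter G) : ecoef g χ = 0 := if_neg h

theorem sgn_div {c x : ℤ} {d : ℕ} (hc : c = 1 ∨ c = -1) :
    (c : ℚ) * (x : ℚ) ^ 2 / (d : ℚ) = ((c * x : ℤ) : ℚ) ^ 2 / ((c * d : ℤ) : ℚ) := by
  rcases hc with rfl | rfl
  · simp
  · push_cast
    rw [neg_one_mul, neg_one_mul, neg_one_mul, neg_sq, div_neg, neg_div]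

/-- The right side of the identity over the order of `G`. -/
noncomputable def kval (F : Frame G) (i : Bool) : ℚ :=
  8 * (F.m : ℚ) ^ 3 * (1 / (F.w₁ : ℚ) + (sgn i : ℚ) / (F.w₂ : ℚ)) ^ 2 / (Nat.card G : ℚ)

/-- The five members and their relations. -/
theorem Ext.exists_rel (hM : IsPModular 2 M) (hn : F.n = 3) (hall : ∀ x : G, orderOf x = 2 → IsConj F.t x)
    (hf : InvD F F.S (lin f : F.O → ℂ)) (hE : E.val = 1) (h₁ : IsLift (side₁ F) f g₁)
    (h₂ : IsLift (side₂ F) f g₂) :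
    ∃ (A P Q R R' : IrrCharacter G) (x₁ y₁ x₂ y₂ : ℤ),
      ((E.c false A ≠ 0 ∧ E.c true A ≠ 0) ∧ (E.c false P ≠ 0 ∧ E.c true P = 0) ∧
        (E.c false Q ≠ 0 ∧ E.c true Q = 0) ∧ E.c true R ≠ 0 ∧ E.c true R' ≠ 0) ∧
      (∀ χ, E.c false χ ≠ 0 → χ = A ∨ χ = P ∨ χ = Q) ∧
      (¬ Moved g₁ → x₁ = 0 ∧ y₁ = 0) ∧ (¬ Moved g₂ → x₂ = 0 ∧ y₂ = 0) ∧
      (E.c false P * (deg (P : G → ℂ) : ℤ)) % 4 = (1 + 2 * (x₁ + x₂)) % 4 ∧
      (E.c false Q * (deg (Q : G → ℂ) : ℤ)) % 4 = (1 - 2 * (x₁ + x₂)) % 4 ∧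
      Rel (E.c false A * (deg (A : G → ℂ) : ℤ)) (E.c false P * (deg (P : G → ℂ) : ℤ))
        (E.c false Q * (deg (Q : G → ℂ) : ℤ)) (E.c true R * (deg (R : G → ℂ) : ℤ))
        (E.c true R' * (deg (R' : G → ℂ) : ℤ)) x₁ y₁ x₂ y₂ (kval F false) (kval F true) := by
  classical
  obtain ⟨A, P, Q, R, R', ⟨hA, hA'⟩, ⟨hP, hP'⟩, ⟨hQ, hQ'⟩, ⟨hR, hR2⟩, ⟨hR', hR2'⟩, hPQ, hRR, hsF, hsT⟩ :=
    exists_five (c := E.c false) (d := E.c true) (E.c_sq_le false) (E.c_sq_le true)
      (by simpa using E.sum_c_mul false false) (by simpa using E.sum_c_mul true true)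
      (by simpa using E.sum_c_mul false true) fun χ h1 h2 => by
        have := E.c_add_ne χ (Or.inl h1)
        rcases E.c_sq_le false χ with e | e | e <;> rcases E.c_sq_le true χ with e' | e' | e' <;> omega
  have hAP : A ≠ P := fun e => hA (by rw [← hA', e, hP'])
  have hAQ : A ≠ Q := fun e => hA (by rw [← hA', e, hQ'])
  have hAR : A ≠ R := fun e => hA (e ▸ hR)
  have hAR' : A ≠ R' := fun e => hA (e ▸ hR')
  have hPR : P ≠ R := fun e => hP (e ▸ hR)
  have hPR' : P ≠ R' := fun e => hP (e ▸ hR')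
  have hQR : Q ≠ R := fun e => hQ (e ▸ hR)
  have hQR' : Q ≠ R' := fun e => hQ (e ▸ hR')
  set cP := E.c false P with hcP
  set cQ := E.c false Q with hcQ
  set cR := E.c true R with hcR
  set cR' := E.c true R' with hcR'
  set cA := E.c false A with hcA
  have sA : cA = 1 ∨ cA = -1 := (E.c_sq_le false A).resolve_left hA
  have sP : cP = 1 ∨ cP = -1 := (E.c_sq_le false P).resolve_left hP
  have sQ : cQ = 1 ∨ cQ = -1 := (E.c_sq_le false Q).resolve_left hQ
  have sR : cR = 1 ∨ cR = -1 := (E.c_sq_le true R).resolve_left hR2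
  have sR' : cR' = 1 ∨ cR' = -1 := (E.c_sq_le true R').resolve_left hR2'
  have mA : mu F A (lin f) = 2 * cA := by rw [← E.c_add_mu hn, hA', ← hcA]; ring
  have mP : mu F P (lin f) = cP := by rw [← E.c_add_mu hn, hP', add_zero]
  have mQ : mu F Q (lin f) = cQ := by rw [← E.c_add_mu hn, hQ', add_zero]
  have mR : mu F R (lin f) = cR := by rw [← E.c_add_mu hn, hR, zero_add]
  have mR' : mu F R' (lin f) = cR' := by rw [← E.c_add_mu hn, hR', zero_add]
  -- a moved side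
  have hside : ∀ (S : Side F) (g : ↥F.O →* ℂˣ), IsLift S f g → Moved g →
      ecoef g A = 0 ∧ (∀ χ, ecoef g χ ≠ 0 → χ = P ∨ χ = Q ∨ χ = R ∨ χ = R') ∧
        (cP * ecoef g P = 1 ∨ cP * ecoef g P = -1) ∧ cQ * ecoef g Q = -(cP * ecoef g P) ∧
        (cR * ecoef g R = 1 ∨ cR * ecoef g R = -1) ∧ cR' * ecoef g R' = -(cR * ecoef g R) ∧
        cP * ecoef g P * (cP * (deg (P : G → ℂ) : ℤ) - cQ * (deg (Q : G → ℂ) : ℤ)) +
          cR * ecoef g R * (cR * (deg (R : G → ℂ) : ℤ) - cR' * (deg (R' : G → ℂ) : ℤ)) = 0 := by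
    intro S g hg hmv
    obtain ⟨h4, hodd, hc, hdeg⟩ := ecoef_facts E hM hn hf hg hmv
    have hone : ∀ χ, χ = P ∨ χ = Q ∨ χ = R ∨ χ = R' → 1 ≤ ecoef g χ * ecoef g χ := by
      intro χ hχ
      have : Odd (ecoef g χ) := hodd χ (by
        rcases hχ with rfl | rfl | rfl | rfl <;> [rw [mP]; rw [mQ]; rw [mR]; rw [mR']] <;>
          [rcases sP with e | e; rcases sQ with e | e; rcases sR with e | e; rcases sR' with e | e] <;>
          rw [e] <;> decide)
      obtain ⟨k, hk⟩ := this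
      rw [hk]
      rcases lt_or_ge k 0 with h | h <;> nlinarith
    set Z : Finset (IrrCharacter G) := {P, Q, R, R'} with hZ
    have hZsum : ∑ χ ∈ Z, ecoef g χ * ecoef g χ =
        ecoef g P * ecoef g P + ecoef g Q * ecoef g Q + ecoef g R * ecoef g R + ecoef g R' * ecoef g R' := by
      rw [hZ, Finset.sum_insert (by simp [hPQ, hPR, hPR']), Finset.sum_insert (by simp [hQR, hQR']),
        Finset.sum_pair hRR]
      ring
    have h4' := Finset.sum_add_sum_compl Z fun χ => ecoef g χ * ecoef g χ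
    rw [h4, hZsum] at h4'
    have hnn : 0 ≤ ∑ χ ∈ Zᶜ, ecoef g χ * ecoef g χ := Finset.sum_nonneg fun χ _ => mul_self_nonneg _
    have hrest : ∀ χ, ecoef g χ ≠ 0 → χ = P ∨ χ = Q ∨ χ = R ∨ χ = R' := by
      intro χ hχ
      by_contra h
      have hmem : χ ∈ Zᶜ := Finset.mem_compl.2 fun hm => h (by simpa [hZ] using hm)
      have h1 := Finset.single_le_sum (f := fun χ => ecoef g χ * ecoef g χ) (fun χ _ => mul_self_nonneg _) hmem
      have h0 : 0 < ecoef g χ * ecoef g χ := mul_self_pos.2 hχ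
      have := hone P (Or.inl rfl)
      have := hone Q (Or.inr (Or.inl rfl))
      have := hone R (Or.inr (Or.inr (Or.inl rfl)))
      have := hone R' (Or.inr (Or.inr (Or.inr rfl)))
      linarith
    have hA0 : ecoef g A = 0 := by
      by_contra h
      rcases hrest A h with e | e | e | e
      exacts [hAP e, hAQ e, hAR e, hAR' e]
    have hu : ∀ χ, χ = P ∨ χ = Q ∨ χ = R ∨ χ = R' → ecoef g χ = 1 ∨ ecoef g χ = -1 := by
      intro χ hχ
      refine mul_self_eq_one_iff.1 ?_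
      have := hone P (Or.inl rfl)
      have := hone Q (Or.inr (Or.inl rfl))
      have := hone R (Or.inr (Or.inr (Or.inl rfl)))
      have := hone R' (Or.inr (Or.inr (Or.inr rfl)))
      rcases hχ with rfl | rfl | rfl | rfl <;> linarith
    have hcF := hc false
    rw [sum_three (fun χ => E.c false χ * ecoef g χ) hAP hAQ hPQ fun χ h => hsF χ (left_ne_zero_of_mul h), hA0,
      mul_zero, zero_add, ← hcP, ← hcQ] at hcF
    have hcT := hc true
    rw [sum_three (fun χ => E.c true χ * ecoef g χ) hAR hAR' hRR fun χ h => hsT χ (left_ne_zero_of_mul h), hA0,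
      mul_zero, zero_add, ← hcR, ← hcR'] at hcT
    rw [sum_four (fun χ => ecoef g χ * (deg (χ : G → ℂ) : ℤ)) hPQ hPR hPR' hQR hQR' hRR
      fun χ h => hrest χ (left_ne_zero_of_mul h)] at hdeg
    refine ⟨hA0, hrest, ?_, by linarith, ?_, by linarith, ?_⟩
    · rcases sP with e | e <;> rcases hu P (Or.inl rfl) with e' | e' <;> rw [e, e'] <;> norm_num
    · rcases sR with e | e <;> rcases hu R (Or.inr (Or.inr (Or.inl rfl))) with e' | e' <;> rw [e, e'] <;> norm_num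
    · have q1 : cP * cP = 1 := by rcases sP with e | e <;> rw [e] <;> norm_num
      have q2 : cQ * cQ = 1 := by rcases sQ with e | e <;> rw [e] <;> norm_num
      have q3 : cR * cR = 1 := by rcases sR with e | e <;> rw [e] <;> norm_num
      have q4 : cR' * cR' = 1 := by rcases sR' with e | e <;> rw [e] <;> norm_num
      linear_combination hdeg + ((ecoef g P) * (deg (P : G → ℂ) : ℤ)) * q1 +
        ((ecoef g Q) * (deg (Q : G → ℂ) : ℤ)) * q2 + ((ecoef g R) * (deg (R : G → ℂ) : ℤ)) * q3 +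
        ((ecoef g R') * (deg (R' : G → ℂ) : ℤ)) * q4 - (cQ * (deg (Q : G → ℂ) : ℤ)) * hcF -
        (cR' * (deg (R' : G → ℂ) : ℤ)) * hcT
  -- the values, whether moved or not
  have hgen : ∀ (S : Side F) (g : ↥F.O →* ℂˣ), IsLift S f g → ecoef g A = 0 ∧
      cQ * ecoef g Q = -(cP * ecoef g P) ∧ cR' * ecoef g R' = -(cR * ecoef g R) := by
    intro S g hg
    by_cases hmv : Moved g
    · exact ⟨(hside S g hg hmv).1, (hside S g hg hmv).2.2.2.1, (hside S g hg hmv).2.2.2.2.2.1⟩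
    · simp [ecoef_of_not_moved hmv]
  obtain ⟨hA1, hQ1, hR1⟩ := hgen _ _ h₁
  obtain ⟨hA2, hQ2, hR2''⟩ := hgen _ _ h₂
  set v : IrrCharacter G → ℤ := fun χ => mu F χ (lin f) + 2 * ecoef g₁ χ + 2 * ecoef g₂ χ with hv
  have hval : ∀ χ : IrrCharacter G, (E.c false χ ≠ 0 ∨ E.c true χ ≠ 0) → (χ : G → ℂ) F.t = (v χ : ℂ) :=
    fun χ h => E.apply_t_three hM hn hf h₁ h₂ h
  have q : ∀ c : ℤ, c = 1 ∨ c = -1 → c * c = 1 := fun c h => by rcases h with e | e <;> rw [e] <;> norm_num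
  have vA : cA * v A = 2 := by rw [hv]; simp only; rw [mA, hA1, hA2]; linear_combination 2 * q cA sA
  have vP : cP * v P = 1 + 2 * (cP * ecoef g₁ P + cP * ecoef g₂ P) := by
    rw [hv]; simp only; rw [mP]; linear_combination q cP sP
  have vQ : cQ * v Q = 1 - 2 * (cP * ecoef g₁ P + cP * ecoef g₂ P) := by
    rw [hv]; simp only; rw [mQ]; linear_combination q cQ sQ + 2 * hQ1 + 2 * hQ2
  have vR : cR * v R = 1 + 2 * (cR * ecoef g₁ R + cR * ecoef g₂ R) := by
    rw [hv]; simp only; rw [mR]; linear_combination q cR sR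
  have vR' : cR' * v R' = 1 - 2 * (cR * ecoef g₁ R + cR * ecoef g₂ R) := by
    rw [hv]; simp only; rw [mR']; linear_combination q cR' sR' + 2 * hR1 + 2 * hR2''
  have hK : ∀ i, E.lhs i v = kval F i := by
    intro i
    have h := E.identity_rat hall i (v := v) fun χ hc => hval χ (by cases i <;> [exact Or.inl hc; exact Or.inr hc])
    rw [hE, deg_lin, Nat.cast_one, one_mul, Int.cast_one, one_pow, mul_one] at h
    rw [kval, eq_div_iff (Nat.cast_ne_zero.2 Nat.card_pos.ne'), h]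
  have hd1 := E.sum_c_deg false
  rw [sum_three (fun χ => E.c false χ * (deg (χ : G → ℂ) : ℤ)) hAP hAQ hPQ fun χ h => hsF χ (left_ne_zero_of_mul h),
    ← hcA, ← hcP, ← hcQ] at hd1
  have hd2 := E.sum_c_deg true
  rw [sum_three (fun χ => E.c true χ * (deg (χ : G → ℂ) : ℤ)) hAR hAR' hRR fun χ h => hsT χ (left_ne_zero_of_mul h),
    hA', ← hcR, ← hcR'] at hd2
  have i1 := hK false
  rw [Ext.lhs, sum_three (fun χ => (E.c false χ : ℚ) * (v χ : ℚ) ^ 2 / (deg (χ : G → ℂ) : ℚ)) hAP hAQ hPQ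
    fun χ h => hsF χ fun e => h (by simp [e]), ← hcA, ← hcP, ← hcQ, sgn_div sA, sgn_div sP, sgn_div sQ,
    vA, vP, vQ] at i1
  have i2 := hK true
  rw [Ext.lhs, sum_three (fun χ => (E.c true χ : ℚ) * (v χ : ℚ) ^ 2 / (deg (χ : G → ℂ) : ℚ)) hAR hAR' hRR
    fun χ h => hsT χ fun e => h (by simp [e]), hA', ← hcR, ← hcR', sgn_div sA, sgn_div sR, sgn_div sR',
    vA, vR, vR'] at i2
  have hmod : ∀ (χ : IrrCharacter G) (c w : ℤ), (E.c false χ ≠ 0 ∨ E.c true χ ≠ 0) → c * v χ = w →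
      (c * (deg (χ : G → ℂ) : ℤ)) % 4 = w % 4 := by
    intro χ c w hc hw
    obtain ⟨k, hk⟩ := deg_mod_four hall χ (hval χ hc)
    refine Int.emod_eq_emod_iff_emod_sub_eq_zero.2 (Int.emod_eq_zero_of_dvd ⟨c * k, ?_⟩)
    linear_combination c * hk + hw
  have horth : cP * ecoef g₁ P * (cP * ecoef g₂ P) + cR * ecoef g₁ R * (cR * ecoef g₂ R) = 0 := by
    by_cases hm₁ : Moved g₁
    · by_cases hm₂ : Moved g₂
      · obtain ⟨-, hr1, -, b1, -, b1', -⟩ := hside _ _ h₁ hm₁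
        obtain ⟨-, -, -, b2, -, b2', -⟩ := hside _ _ h₂ hm₂
        have h := ecoef_orth hn h₁ h₂ hm₁ hm₂
        rw [sum_four (fun χ => ecoef g₁ χ * ecoef g₂ χ) hPQ hPR hPR' hQR hQR' hRR
          fun χ h => hr1 χ (left_ne_zero_of_mul h)] at h
        have e1 : cP * ecoef g₁ P * (cP * ecoef g₂ P) = ecoef g₁ P * ecoef g₂ P := by
          linear_combination (ecoef g₁ P * ecoef g₂ P) * q cP sP
        have e1' : ecoef g₁ Q * ecoef g₂ Q = ecoef g₁ P * ecoef g₂ P := by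
          have : cQ * ecoef g₁ Q * (cQ * ecoef g₂ Q) = cP * ecoef g₁ P * (cP * ecoef g₂ P) := by rw [b1, b2]; ring
          linear_combination this + e1 - (ecoef g₁ Q * ecoef g₂ Q) * q cQ sQ
        have e2 : cR * ecoef g₁ R * (cR * ecoef g₂ R) = ecoef g₁ R * ecoef g₂ R := by
          linear_combination (ecoef g₁ R * ecoef g₂ R) * q cR sR
        have e2' : ecoef g₁ R' * ecoef g₂ R' = ecoef g₁ R * ecoef g₂ R := by
          have : cR' * ecoef g₁ R' * (cR' * ecoef g₂ R') = cR * ecoef g₁ R * (cR * ecoef g₂ R) := by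
            rw [b1', b2']; ring
          linear_combination this + e2 - (ecoef g₁ R' * ecoef g₂ R') * q cR' sR'
        linarith
      · simp [ecoef_of_not_moved hm₂]
    · simp [ecoef_of_not_moved hm₁]
  have hsd : ∀ (S : Side F) (g : ↥F.O →* ℂˣ), IsLift S f g →
      (cP * ecoef g P = 0 ∧ cR * ecoef g R = 0) ∨ ((cP * ecoef g P = 1 ∨ cP * ecoef g P = -1) ∧
        (cR * ecoef g R = 1 ∨ cR * ecoef g R = -1) ∧
        cP * ecoef g P * (cP * (deg (P : G → ℂ) : ℤ) - cQ * (deg (Q : G → ℂ) : ℤ)) +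
          cR * ecoef g R * (cR * (deg (R : G → ℂ) : ℤ) - cR' * (deg (R' : G → ℂ) : ℤ)) = 0) := by
    intro S g hg
    by_cases hmv : Moved g
    · obtain ⟨-, -, a1, -, a2, -, a3⟩ := hside S g hg hmv
      exact Or.inr ⟨a1, a2, a3⟩
    · exact Or.inl (by simp [ecoef_of_not_moved hmv])
  refine ⟨A, P, Q, R, R', cP * ecoef g₁ P, cR * ecoef g₁ R, cP * ecoef g₂ P, cR * ecoef g₂ R,
    ⟨⟨hA, by rw [hA']; exact hA⟩, ⟨hP, hP'⟩, ⟨hQ, hQ'⟩, hR2, hR2'⟩, hsF,
    fun h => by simp [ecoef_of_not_moved h], fun h => by simp [ecoef_of_not_moved h],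
    hmod P cP _ (Or.inl hP) vP, hmod Q cQ _ (Or.inl hQ) vQ,
    ⟨hd1, hd2, hsd _ _ h₁, hsd _ _ h₂, horth, ?_, ?_⟩⟩
  · rw [← i1]; push_cast; norm_num [hcA, hcP, hcQ]
  · rw [← i2]; push_cast; norm_num [hcA, hcR, hcR']

end Cfsg.Lib.GWD.Chr
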