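import Cfsg.Agent.GWDihedral.Chars.Three.Lifts

/-!
# `n = 3`: the five members and their coefficients

The sum of the two coefficients is the coefficient of `θ` at `t`; the lifts of the two sides give the two further
vectors, orthogonal to each other, to the degrees and to the coefficients.
-/

set_option autoImplicit false
set_option linter.unusedSectionVars false
set_option linter.style.haveILetI false

namespace Cfsg.Lib.GWD.Chr

open Cfsg Cfsg.Lib.Chars Cfsg.Lib.Blocks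
open scoped ComplexConjugate commutatorElement

universe u

variable {G : Type u} [Group G] [Fintype G] {F : Frame G} [Fintype F.O] {M : Ideal AlgInt}

theorem comm_sq (hn : F.n = 3) : ∀ y ∈ F.O, Commute (F.s ^ 2) y := fun y hy => by
  rw [sq_eq_t hn]; exact commute_t F hy

theorem cover_U (hn : F.n = 3) (P : Side F) {v : G} (hv : v ∈ F.S) :
    v ∈ P.V.U ∨ F.s * v ∈ P.V.U := by
  have hi : (P.V.U.subgroupOf F.S).index = 2 := by
    have h := Subgroup.card_mul_index (P.V.U.subgroupOf F.S)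
    rw [Nat.card_congr (Subgroup.subgroupOfEquivOfLe P.U_le).toEquiv, P.V.card_U, F.card_S, hn] at h
    omega
  have h := Subgroup.mul_mem_iff_of_index_two hi (a := ⟨F.s, F.s_mem_S⟩) (b := ⟨v, hv⟩)
  simp only [Subgroup.mem_subgroupOf, Subgroup.coe_mul] at h
  by_cases hvU : v ∈ P.V.U
  · exact Or.inl hvU
  · exact Or.inr (h.2 ⟨fun hs => absurd hs P.s_not_mem, fun h => absurd h hvU⟩)

/-- The lift is moved by `s`. -/
def Moved (g : ↥F.O →* ℂˣ) : Prop := F.s ∉ stab F (lin g)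

theorem not_moved_one : ¬ Moved (1 : ↥F.O →* ℂˣ) := fun h =>
  h ⟨F.s_mem_S, fun _ _ _ => rfl⟩

theorem Side.U_le_stab (P : Side F) {f g : ↥F.O →* ℂˣ} (hg : IsLift P f g) : P.V.U ≤ stab F (lin g) :=
  fun u hu => ⟨P.U_le hu, fun a b h => by rw [lin_apply, lin_apply, hg.inv u hu a b h]⟩

theorem Side.stab_eq (hn : F.n = 3) (P : Side F) {f g : ↥F.O →* ℂˣ} (hg : IsLift P f g) (hmv : Moved g) :
    stab F (lin g) = P.V.U := by
  refine le_antisymm (fun v hv => ?_) (P.U_le_stab hg)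
  rcases cover_U hn P (stab_le F _ hv) with h | h
  · exact h
  · refine absurd ?_ hmv
    have := mul_mem (P.U_le_stab hg h) (inv_mem hv)
    rwa [mul_inv_cancel_right] at this

theorem s_mem_stab_of_both {ζ : IrrCharacter F.O} (h₁ : F.four₁.U ≤ stab F ζ) (h₂ : F.four₂.U ≤ stab F ζ) :
    F.s ∈ stab F ζ := by
  have := mul_mem (inv_mem (h₁ F.four₁.u_mem_U)) (h₂ F.four₂.u_mem_U)
  rwa [show (F.four₁.u)⁻¹ * F.four₂.u = F.r⁻¹ * (F.r * F.s) from rfl, inv_mul_cancel_left] at this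

theorem card_fix (ζ : IrrCharacter F.O) [Fintype F.S] [DecidableEq (IrrCharacter F.O)] :
    (Finset.univ.filter fun u : F.S => Glauberman.twist (conjO F (F.S_le_C u.2)) ζ = ζ).card =
      Nat.card (stab F ζ) := by
  rw [← Fintype.card_subtype, ← Nat.card_eq_fintype_card]
  exact Nat.card_congr
    { toFun := fun u => ⟨u.1, (mem_stab F u.1.2).2 u.2⟩
      invFun := fun u => ⟨⟨u.1, stab_le F _ u.2⟩, (mem_stab F (stab_le F _ u.2)).1 u.2⟩
      left_inv := fun _ => rfl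
      right_inv := fun _ => rfl }

/-- Four coefficients of absolute value one. -/
theorem sum_sq_of_stab {ζ : IrrCharacter F.O} {D : Subgroup G} (hD : stab F ζ = D) (h4 : Nat.card D = 4) :
    ∑ χ : IrrCharacter G, mu F χ ζ * mu F χ ζ = 4 := by
  classical
  letI : Fintype F.S := Fintype.ofFinite _
  rw [mu_orth F ζ ζ, card_fix, hD, h4]
  rfl

theorem mu_cases {ζ : IrrCharacter F.O} {D : Subgroup G} (hD : stab F ζ = D) (h4 : Nat.card D = 4)
    (χ : IrrCharacter G) : mu F χ ζ = 0 ∨ mu F χ ζ = 1 ∨ mu F χ ζ = -1 := by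
  classical
  have hsum := sum_sq_of_stab hD h4
  have hle := Finset.single_le_sum (f := fun φ => mu F φ ζ * mu F φ ζ) (fun φ _ => mul_self_nonneg _)
    (Finset.mem_univ χ)
  rw [hsum] at hle
  have h1 : -2 ≤ mu F χ ζ := by nlinarith
  have h2 : mu F χ ζ ≤ 2 := by nlinarith
  by_contra hc
  have hv : mu F χ ζ = 2 ∨ mu F χ ζ = -2 := by omega
  have hrest : ∀ φ ∈ Finset.univ.erase χ, mu F φ ζ = 0 := fun φ hφ => by
    have h := Finset.add_le_sum (f := fun φ => mu F φ ζ * mu F φ ζ) (fun φ _ => mul_self_nonneg _)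
      (Finset.mem_univ χ) (Finset.mem_univ φ) (Finset.ne_of_mem_erase hφ).symm
    rw [hsum] at h
    refine mul_self_eq_zero.1 (le_antisymm ?_ (mul_self_nonneg _))
    rcases hv with e | e <;> rw [e] at h <;> linarith
  have hd := sum_mu_deg F ζ
  rw [← Finset.add_sum_erase _ _ (Finset.mem_univ χ), Finset.sum_eq_zero fun φ hφ => by rw [hrest φ hφ, zero_mul],
    add_zero, mul_eq_zero] at hd
  rcases hd with e | e
  · omega
  · exact (deg_irr_pos χ).ne' (by exact_mod_cast e)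

variable [Fintype F.C] {f : ↥F.O →* ℂˣ} (E : Ext F (lin f))

theorem Ext.c_add_mu (hn : F.n = 3) (χ : IrrCharacter G) :
    E.c false χ + E.c true χ = mu F χ (lin f) := by
  apply Int.cast_injective (α := ℂ)
  have h := E.c_add_eq χ
  rw [hn, show (Finset.range (2 ^ (3 - 1))).filter (fun k => k % 4 = 2) = {2} by decide, Finset.sum_singleton] at h
  rw [← mu_spec]
  have e : (fun y : F.O => (χ : G → ℂ) ((y : G) * F.s ^ ((2 : ℕ) : ℤ))) = fun y : F.O => (χ : G → ℂ) (F.t * y) := by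
    funext y
    rw [zpow_natCast, sq_eq_t hn, (commute_t F y.2).eq]
  rw [e] at h
  push_cast at h ⊢
  linear_combination h / 8

/-- The coefficients against those of the virtual characters. -/
theorem Ext.sum_c_mu (hn : F.n = 3) (i : Bool) (ζ : IrrCharacter F.O) [Decidable (lin f = ζ)] :
    ∑ χ : IrrCharacter G, E.c i χ * mu F χ ζ = if lin f = ζ then 4 else 0 := by
  classical
  apply Int.cast_injective (α := ℂ)
  push_cast
  simp only [← mu_spec]
  have hval : ∀ y : F.O, indFun F.C (E.alpha i) (F.t * y) = 4 * (lin f : F.O → ℂ) y := by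
    intro y
    have hmem : (y : G) * F.s ^ (2 : ℤ) ∈ F.C := mul_mem (F.O_le y.2) (F.S_le_C (zpow_mem_S F 2))
    have hst : F.s ^ (2 : ℤ) = F.t := by rw [← sq_eq_t hn]; norm_cast
    have hsupp : ((⟨(y : G) * F.s ^ (2 : ℤ), hmem⟩ : F.C) : G) ∈ Supp F := ⟨y, y.2, 2, rfl, by norm_num⟩
    have h1 : (⟨(y : G) * F.s ^ (2 : ℤ), hmem⟩ : F.C) ≠ 1 := fun e => by
      have e' : (y : G) * F.t = 1 := by rw [← hst]; exact congrArg Subtype.val e
      exact odd_O F y.2 (dvd_of_eq (by rw [eq_inv_of_mul_eq_one_left e', orderOf_inv, F.t_order]))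
    rw [show F.t * (y : G) = ((⟨(y : G) * F.s ^ (2 : ℤ), hmem⟩ : F.C) : G) by rw [(commute_t F y.2).eq, ← hst],
      indFun_TI_apply' F.C (Supp F) (fun g hg z hz hgz => supp_TI F hg hz hgz) (E.isClassFunction_alpha i)
        (fun z hz => by
          by_contra h0
          exact hz (E.alpha_support h0)) _ hsupp h1, E.alpha_rot i y 2,
      show fD i (.r ((2 : ℤ) : ZMod 4)) = 4 by cases i <;> decide]
    push_cast; ring
  have hexp : ∀ y : F.O, ∑ χ : IrrCharacter G, (E.c i χ : ℂ) * (χ : G → ℂ) (F.t * y) =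
      4 * (lin f : F.O → ℂ) y := by
    intro y
    rw [← hval, E.indFun_eq, Finset.sum_apply]
    exact Finset.sum_congr rfl fun χ _ => by rw [Pi.smul_apply, smul_eq_mul]
  have h := classInner_irrCharacter (lin f) ζ
  calc ∑ χ : IrrCharacter G, (E.c i χ : ℂ) * classInner (fun y : F.O => (χ : G → ℂ) (F.t * y)) (ζ : F.O → ℂ)
      = 4 * classInner (lin f : F.O → ℂ) (ζ : F.O → ℂ) := by
        simp only [classInner_def, Finset.mul_sum]
        rw [Finset.sum_comm]
        refine Finset.sum_congr rfl fun y _ => ?_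
        rw [← mul_assoc (4 : ℂ), mul_comm (4 : ℂ), mul_assoc, ← mul_assoc (4 : ℂ), ← hexp y, Finset.sum_mul,
          Finset.mul_sum]
        exact Finset.sum_congr rfl fun χ _ => by ring
    _ = _ := by rw [h]; split_ifs <;> simp

variable {g₁ g₂ : ↥F.O →* ℂˣ}

/-- The further characters in the support of a member. -/
theorem Ext.support (hM : IsPModular 2 M) (hn : F.n = 3) (hf : InvD F F.S (lin f : F.O → ℂ))
    (h₁ : IsLift (side₁ F) f g₁) (h₂ : IsLift (side₂ F) f g₂) {χ : IrrCharacter G}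
    (h : E.c false χ ≠ 0 ∨ E.c true χ ≠ 0) {ζ : IrrCharacter F.O} (hμ : mu F χ ζ ≠ 0) (hne : ζ ≠ lin f) :
    (Moved g₁ ∧ (ζ = lin g₁ ∨ ζ = Glauberman.twist (conjO F (s_mem_C F)) (lin g₁))) ∨
    (Moved g₂ ∧ (ζ = lin g₂ ∨ ζ = Glauberman.twist (conjO F (s_mem_C F)) (lin g₂))) := by
  classical
  have hside : ∀ (P : Side F) (g : ↥F.O →* ℂˣ), IsLift P f g → stab F ζ = P.V.U →
      Moved g ∧ (ζ = lin g ∨ ζ = Glauberman.twist (conjO F (s_mem_C F)) (lin g)) := by
    intro P g hg hD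
    letI : Fintype (WD F (stab F ζ)) := Fintype.ofFinite _
    letI : Fintype (WD F P.V.U) := Fintype.ofFinite _
    have hζD : InvD F P.V.U (ζ : F.O → ℂ) := hD ▸ invD_stab F ζ
    obtain ⟨β, hβ⟩ := exists_rcD F hM (stab_le F ζ) (invD_stab F ζ)
    rcases eq_or_rotated F hM (comm_sq hn) hf (E.resid hM (comm_sq hn) h) (resid_of_mu F hM hμ) rfl hβ with
      e | ⟨-, -, ζ', β', k, hζ', hβ', hkC, hc⟩
    · exact absurd e hne
    -- the invariant character is `lin f`
    have hpar := res_mu_eq F hM (stab_le F ζ) (t_mem_stab F ζ) (invD_stab F ζ) (hζ'.mono F (stab_le F ζ)) hβ hβ'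
      hc.1 ((carry_iff F (t_mem_stab F ζ) hc.1).1 hc) χ
    have hodd : (mu F χ ζ : Res M) ≠ 0 := by
      haveI := charP_res hM
      rcases mu_cases hD P.V.card_U χ with e | e | e
      · exact absurd e hμ
      · rw [e, Int.cast_one]; exact one_ne_zero
      · rw [e, Int.cast_neg, Int.cast_one, neg_ne_zero]; exact one_ne_zero
    have hμ' : mu F χ ζ' ≠ 0 := fun e => hodd (by rw [hpar, e, Int.cast_zero])
    have hζf : ζ' = lin f := eq_of_resid F hM (comm_sq hn) hf (E.resid hM (comm_sq hn) h) (resid_of_mu F hM hμ')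
      (Or.inr ⟨F.s_mem_S, fun a b e => hζ' F.s F.s_mem_S a b e⟩)
    subst hζf


    have hkey : ∀ (D : Subgroup G) (hD' : D = P.V.U) [Fintype (WD F D)] (β β' : IrrCharacter (WD F D)),
        RC M (ιD F D) ζ β → RC M (ιD F D) (lin f) β' → Carry F β' β k →
        ∃ (v : G) (hv : v ∈ F.S), ζ = Glauberman.twist (conjO F (F.S_le_C hv)) (lin g) := by
      intro D hD'
      subst hD'
      intro _ β β' hβ hβ' hc
      have hb : β' = linW P f := eq_of_res_eq hM (not_dvd_card_WD F _) fun x => ((hβ' x).symm.trans (rc_lin P f x))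
      exact rotated_eq P hM hn hg hf hζD hβ hkC (hb ▸ hc)
    obtain ⟨v, hv, e⟩ := hkey _ hD β β' hβ hβ' hc
    have hfix : ∀ u (hu : u ∈ F.S), u ∈ stab F (lin g) → Glauberman.twist (conjO F (F.S_le_C hu)) (lin g) = lin g :=
      fun u hu h => (mem_stab F hu).1 h
    refine ⟨fun hs => ?_, ?_⟩
    · have hv' : v ∈ stab F (lin g) := by
        rcases cover_U hn P hv with h' | h'
        · exact P.U_le_stab hg h'
        · have := mul_mem (inv_mem hs) (P.U_le_stab hg h')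
          rwa [inv_mul_cancel_left] at this
      rw [hfix v hv hv'] at e
      exact P.s_not_mem (hD ▸ e ▸ hs)
    · rcases cover_U hn P hv with h' | h'
      · exact Or.inl (e.trans (hfix v hv (P.U_le_stab hg h')))
      · refine Or.inr (e.trans (Subtype.ext (funext fun a => ?_)))
        rw [Glauberman.twist_apply, Glauberman.twist_apply, lin_apply, lin_apply]
        have hu' : F.s⁻¹ * (F.s * v) * F.s ∈ P.V.U := (Subgroup.mem_normalizer_iff''.1 (P.S_le_norm hn F.s_mem_S) _).1 h'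
        refine congrArg Units.val (hg.inv (F.s⁻¹ * (F.s * v) * F.s * F.t⁻¹) (mul_mem hu' (inv_mem P.t_mem)) _ _ ?_)
        rw [conjO_coe, conjO_coe, show F.t⁻¹ = (F.s ^ 2)⁻¹ by rw [sq_eq_t hn]]
        group
  obtain ⟨β, hβ⟩ : ∃ β, RC M (ιD F (stab F ζ)) ζ β := by
    letI : Fintype (WD F (stab F ζ)) := Fintype.ofFinite _
    exact exists_rcD F hM (stab_le F ζ) (invD_stab F ζ)
  letI : Fintype (WD F (stab F ζ)) := Fintype.ofFinite _
  rcases eq_or_rotated F hM (comm_sq hn) hf (E.resid hM (comm_sq hn) h) (resid_of_mu F hM hμ) rfl hβ with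
    e | ⟨-, hU, -⟩
  · exact absurd e hne
  · rcases hU with hU | hU
    · exact Or.inl (hside (side₁ F) g₁ h₁ hU)
    · exact Or.inr (hside (side₂ F) g₂ h₂ hU)

open scoped _root_.Classical in
/-- The coefficient of a side. -/
noncomputable def ecoef (g : ↥F.O →* ℂˣ) (χ : IrrCharacter G) : ℤ := if Moved g then mu F χ (lin g) else 0

theorem deg_twist_lin {v : G} (hv : v ∈ F.C) (g : ↥F.O →* ℂˣ) :
    deg (Glauberman.twist (conjO F hv) (lin g) : F.O → ℂ) = 1 := by
  apply Nat.cast_injective (R := ℂ)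
  rw [← irr_apply_one_eq_deg, Glauberman.twist_apply, map_one, lin_apply, map_one, Units.val_one, Nat.cast_one]

/-- The value of a member at `t`. -/
theorem Ext.apply_t_three (hM : IsPModular 2 M) (hn : F.n = 3) (hf : InvD F F.S (lin f : F.O → ℂ))
    (h₁ : IsLift (side₁ F) f g₁) (h₂ : IsLift (side₂ F) f g₂) {χ : IrrCharacter G}
    (h : E.c false χ ≠ 0 ∨ E.c true χ ≠ 0) :
    (χ : G → ℂ) F.t = ((mu F χ (lin f) + 2 * ecoef g₁ χ + 2 * ecoef g₂ χ : ℤ) : ℂ) := by
  classical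
  have hsC : F.s ∈ F.C := s_mem_C F
  set a := fun g : ↥F.O →* ℂˣ => (lin g : IrrCharacter F.O) with ha
  set b := fun g : ↥F.O →* ℂˣ => Glauberman.twist (conjO F hsC) (lin g) with hb
  have hfs : F.s ∈ stab F (lin f) := ⟨F.s_mem_S, fun x y e => hf F.s F.s_mem_S x y e⟩
  have hbs : ∀ g, Moved g → F.s ∉ stab F (b g) := by
    intro g hmv hs
    refine hmv ⟨F.s_mem_S, fun x y e => ?_⟩
    have hx : F.s⁻¹ * x * F.s⁻¹⁻¹ ∈ F.O := conj_mem_O F (inv_mem hsC) x.2
    have hy : F.s⁻¹ * y * F.s⁻¹⁻¹ ∈ F.O := conj_mem_O F (inv_mem hsC) y.2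
    have h2 := hs.2 ⟨_, hx⟩ ⟨_, hy⟩ (by
      show F.s⁻¹ * (y : G) * F.s⁻¹⁻¹ = F.s * (F.s⁻¹ * (x : G) * F.s⁻¹⁻¹) * F.s⁻¹
      rw [show (y : G) = F.s * x * F.s⁻¹ from e]; group)
    rw [hb, Glauberman.twist_apply, Glauberman.twist_apply] at h2
    rwa [show conjO F hsC ⟨_, hx⟩ = x from Subtype.ext (by rw [conjO_coe]; group),
      show conjO F hsC ⟨_, hy⟩ = y from Subtype.ext (by rw [conjO_coe]; group)] at h2
  have hab : ∀ g, Moved g → a g ≠ b g := fun g hmv e => hmv ((mem_stab F F.s_mem_S).2 e.symm)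
  have hUb : ∀ (P : Side F) (g : ↥F.O →* ℂˣ), IsLift P f g → ∀ z, z = a g ∨ z = b g → P.V.U ≤ stab F z := by
    intro P g hg z hz
    rcases hz with rfl | rfl
    · exact P.U_le_stab hg
    · exact fun u hu => ⟨P.U_le hu, invD_twist F (invD_stab F (lin g) |>.mono F (P.U_le_stab hg)) hsC
        (P.S_le_norm hn F.s_mem_S) u hu⟩
  have hdis : ∀ z w, (Moved g₁ ∧ (z = a g₁ ∨ z = b g₁)) → (Moved g₂ ∧ (w = a g₂ ∨ w = b g₂)) → z ≠ w := by
    rintro z w ⟨hm₁, hz⟩ ⟨hm₂, hw⟩ rfl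
    have := s_mem_stab_of_both (hUb (side₁ F) g₁ h₁ z hz) (hUb (side₂ F) g₂ h₂ z hw)
    rcases hz with rfl | rfl
    · exact hm₁ this
    · exact hbs g₁ hm₁ this
  have hmt : ∀ g, mu F χ (b g) = mu F χ (a g) := fun g => mu_twist F χ (lin g) hsC
  have hterm : ∀ ζ : IrrCharacter F.O, (mu F χ ζ : ℂ) * (deg (ζ : F.O → ℂ) : ℂ) =
      (if ζ = lin f then (mu F χ (lin f) : ℂ) else 0) +
        ((if ζ = a g₁ then (ecoef g₁ χ : ℂ) else 0) + (if ζ = b g₁ then (ecoef g₁ χ : ℂ) else 0)) +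
        ((if ζ = a g₂ then (ecoef g₂ χ : ℂ) else 0) + (if ζ = b g₂ then (ecoef g₂ χ : ℂ) else 0)) := by
    intro ζ
    have hfne : ∀ g, Moved g → lin f ≠ a g ∧ lin f ≠ b g := fun g hmv =>
      ⟨fun e => hmv (by rw [show (lin g : IrrCharacter F.O) = lin f from e.symm]; exact hfs),
        fun e => hbs g hmv (by rw [← e]; exact hfs)⟩
    by_cases hζf : ζ = lin f
    · subst hζf
      rw [deg_lin, Nat.cast_one, mul_one, if_pos rfl]
      have hz : ∀ g, (if lin f = a g then (ecoef g χ : ℂ) else 0) + (if lin f = b g then (ecoef g χ : ℂ) else 0) = 0 := by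
        intro g
        by_cases hmv : Moved g
        · rw [if_neg (hfne g hmv).1, if_neg (hfne g hmv).2, add_zero]
        · simp [ecoef, hmv]
      rw [hz, hz, add_zero, add_zero]
    rw [if_neg hζf, zero_add]
    by_cases hμ : mu F χ ζ = 0
    · have hz : ∀ g, (if ζ = a g then (ecoef g χ : ℂ) else 0) = 0 ∧ (if ζ = b g then (ecoef g χ : ℂ) else 0) = 0 := by
        intro g
        by_cases hmv : Moved g
        · refine ⟨?_, ?_⟩ <;> split_ifs with e <;> try rfl
          · rw [ecoef, if_pos hmv, show mu F χ (lin g) = mu F χ ζ by rw [e], hμ, Int.cast_zero]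
          · rw [ecoef, if_pos hmv, show mu F χ (lin g) = mu F χ ζ by rw [e, hmt], hμ, Int.cast_zero]
        · simp [ecoef, hmv]
      rw [hμ, (hz g₁).1, (hz g₁).2, (hz g₂).1, (hz g₂).2]; simp
    have hnot : ∀ g, (¬ (Moved g ∧ (ζ = a g ∨ ζ = b g))) →
        (if ζ = a g then (ecoef g χ : ℂ) else 0) + (if ζ = b g then (ecoef g χ : ℂ) else 0) = 0 := by
      intro g hg
      by_cases hmv : Moved g
      · rw [if_neg fun e => hg ⟨hmv, Or.inl e⟩, if_neg fun e => hg ⟨hmv, Or.inr e⟩, add_zero]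
      · simp [ecoef, hmv]
    have hyes : ∀ g, (Moved g ∧ (ζ = a g ∨ ζ = b g)) → (mu F χ ζ : ℂ) * (deg (ζ : F.O → ℂ) : ℂ) =
        (if ζ = a g then (ecoef g χ : ℂ) else 0) + (if ζ = b g then (ecoef g χ : ℂ) else 0) := by
      rintro g ⟨hmv, rfl | rfl⟩
      · rw [if_pos rfl, if_neg (hab g hmv), add_zero, ecoef, if_pos hmv, deg_lin, Nat.cast_one, mul_one]
      · rw [if_pos rfl, if_neg (hab g hmv).symm, zero_add, ecoef, if_pos hmv, hmt, deg_twist_lin, Nat.cast_one,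
          mul_one]
    rcases E.support hM hn hf h₁ h₂ h hμ hζf with hc | hc
    · rw [hnot g₂ fun hc' => hdis ζ ζ hc hc' rfl, add_zero, hyes g₁ hc]
    · rw [hnot g₁ fun hc' => hdis ζ ζ hc' hc rfl, zero_add, hyes g₂ hc]
  rw [apply_t, Finset.sum_congr rfl fun ζ _ => hterm ζ]
  simp only [Finset.sum_add_distrib, Finset.sum_ite_eq', Finset.mem_univ, if_true]
  push_cast
  ring

/-- A member is constant on the cosets of the commutator subgroup in `t O`. -/
theorem Ext.inv_three (hM : IsPModular 2 M) (hn : F.n = 3) (hf : InvD F F.S (lin f : F.O → ℂ))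
    (h₁ : IsLift (side₁ F) f g₁) (h₂ : IsLift (side₂ F) f g₂) {χ : IrrCharacter G}
    (h : E.c false χ ≠ 0 ∨ E.c true χ ≠ 0) {k : G} (hk : k ∈ ⁅F.four₁.T, F.four₁.W⁆) {y : G} (hy : y ∈ F.O) :
    (χ : G → ℂ) (F.t * (k * y)) = (χ : G → ℂ) (F.t * y) := by
  classical
  have h1 := apply_t_mul F χ ⟨k * y, mul_mem (K_le_O hk) hy⟩
  have h2 := apply_t_mul F χ ⟨y, hy⟩
  simp only at h1 h2
  rw [h1, h2]
  refine Finset.sum_congr rfl fun ζ _ => ?_
  by_cases hμ : mu F χ ζ = 0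
  · simp [hμ]
  congr 1
  obtain ⟨φ, hφ⟩ : ∃ φ : ↥F.O →* ℂˣ, ∀ x, (ζ : F.O → ℂ) x = (φ x : ℂ) := by
    by_cases hne : ζ = lin f
    · exact ⟨f, fun x => by rw [hne]; rfl⟩
    rcases E.support hM hn hf h₁ h₂ h hμ hne with ⟨-, e | e⟩ | ⟨-, e | e⟩ <;> rw [e]
    · exact ⟨g₁, fun x => rfl⟩
    · exact ⟨g₁.comp (conjO F (s_mem_C F)).toMonoidHom, fun x => rfl⟩
    · exact ⟨g₂, fun x => rfl⟩
    · exact ⟨g₂.comp (conjO F (s_mem_C F)).toMonoidHom, fun x => rfl⟩
  rw [hφ, hφ, show (⟨k * y, mul_mem (K_le_O hk) hy⟩ : F.O) = ⟨k, K_le_O hk⟩ * ⟨y, hy⟩ from rfl, map_mul,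
    hom_comm φ four_T_le four_W_le hk (K_le_O hk), one_mul]

end Cfsg.Lib.GWD.Chr
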