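import Cfsg.Agent.GWDihedral.Chars.Linear
import Cfsg.Agent.GWDihedral.Kill.Basic

/-!
# `n = 3`: the linear characters rotated from an invariant one

On each side a linear character of `O` extends the rotated restriction to the fixed points of the four-group; every
further character with the residues of a member is one of its two conjugates.
-/

set_option autoImplicit false
set_option linter.unusedSectionVars false
set_option linter.style.haveILetI false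

namespace Cfsg.Lib.GWD.Chr

open Cfsg Cfsg.Lib.Chars Cfsg.Lib.Blocks
open scoped ComplexConjugate commutatorElement

universe u

variable {G : Type u} [Group G] [Fintype G] (F : Frame G)

/-- A four-group of `S` through `t`, with its rotation. -/
structure Side where
  V : Cfsg.Lib.GW.Frame G
  t_eq : V.t = F.t
  u_mem : V.u ∈ F.S
  flips : V.u * F.s * V.u⁻¹ = F.s⁻¹

/-- The side of `r`. -/
def side₁ : Side F := ⟨F.four₁, rfl, F.r_mem_S, F.rel⟩

/-- The side of `r s`. -/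
def side₂ : Side F := ⟨F.four₂, rfl, mul_mem F.r_mem_S F.s_mem_S, by
  show F.r * F.s * F.s * (F.r * F.s)⁻¹ = F.s⁻¹
  rw [mul_inv_rev, show F.r * F.s * F.s * (F.s⁻¹ * F.r⁻¹) = F.r * F.s * F.r⁻¹ by group]
  exact F.rel⟩

variable {F} (P : Side F)

theorem Side.O_eq : P.V.O = F.O := by
  rw [Cfsg.Lib.GW.Frame.O, Cfsg.Lib.GW.Frame.C, P.t_eq]; rfl

theorem Side.t_mem : F.t ∈ P.V.U := P.t_eq ▸ P.V.t_mem_U

theorem Side.U_le : P.V.U ≤ F.S := P.V.U_le_iff.2 ⟨P.t_eq.symm ▸ F.t_mem_S, P.u_mem⟩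

theorem Side.mem_W {y : G} : y ∈ P.V.W ↔ y ∈ WD F P.V.U := by
  show y ∈ P.V.W ↔ y ∈ F.O ⊓ Subgroup.centralizer (P.V.U : Set G)
  rw [Subgroup.mem_inf, P.V.mem_centralizer_U, P.V.mem_W, P.O_eq, P.t_eq]
  exact ⟨fun h => ⟨h.1, F.mem_C.1 (F.O_le h.1), h.2⟩, fun h => ⟨h.1, h.2.2⟩⟩

theorem Side.W_eq : P.V.W = WD F P.V.U := Subgroup.ext fun _ => P.mem_W

theorem Side.s_move : F.s * P.V.u * F.s⁻¹ ≠ P.V.u := fun e => by
  have h1 := mul_inv_eq_iff_eq_mul.1 e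
  have h := P.flips
  rw [← h1, mul_inv_cancel_right] at h
  have h2 : F.s ^ 2 = 1 := by rw [pow_two]; exact mul_eq_one_iff_eq_inv.2 h
  have := Nat.le_of_dvd two_pos (orderOf_dvd_of_pow_eq_one h2)
  rw [F.s_order] at this
  have := F.three_le
  have := Nat.pow_le_pow_right two_pos (show 2 ≤ F.n - 1 by omega)
  omega

theorem Side.s_not_mem : F.s ∉ P.V.U := fun h => P.s_move (by
  rw [P.V.U_comm h P.V.u_mem_U, mul_inv_cancel_right])

theorem sq_eq_t (hn : F.n = 3) : F.s ^ 2 = F.t := by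
  show F.s ^ 2 = F.s ^ 2 ^ (F.n - 2)
  rw [hn]; norm_num

theorem Side.S_le_norm [Fintype F.O] (hn : F.n = 3) : F.S ≤ Subgroup.normalizer (P.V.U : Set G) :=
  S_le_normalizer F P.U_le (by rw [sq_eq_t hn]; exact P.t_mem)

/-- An extension of the rotated restriction, fixed by the four-group. -/
structure IsLift (f g : ↥F.O →* ℂˣ) : Prop where
  inv : ∀ u ∈ P.V.U, ∀ a b : F.O, (b : G) = u * a * u⁻¹ → g b = g a
  rot : ∀ a b : F.O, (a : G) ∈ WD F P.V.U → P.V.σ * a * P.V.σ⁻¹ = b → g a = f b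

theorem isLift_one : IsLift P 1 1 := ⟨fun _ _ _ _ _ => rfl, fun _ _ _ _ => rfl⟩

theorem Side.rot_mem {a : G} (ha : a ∈ WD F P.V.U) : P.V.σ * a * P.V.σ⁻¹ ∈ WD F P.V.U :=
  conj_mem_WD F P.t_mem P.V.σ_mem ha

theorem exists_lift (f : ↥F.O →* ℂˣ)
    (hker : ∀ a b : F.O, (a : G) ∈ P.V.T → (a : G) ∈ WD F P.V.U → P.V.σ * a * P.V.σ⁻¹ = b → f b = 1) :
    ∃ g, IsLift P f g := by
  classical
  have hTO : ∀ {x : G}, x ∈ P.V.T → x ∈ F.O := fun hx => P.O_eq ▸ P.V.T_le hx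
  have hdec : ∀ o : F.O, ∃ x ∈ P.V.T, ∃ w ∈ WD F P.V.U, (o : G) = x * w := by
    intro o
    obtain ⟨w, hw, i, hi, hiu, e⟩ := Kill.exists_mul P.V (show (o : G) ∈ P.V.O by rw [P.O_eq]; exact o.2)
    refine ⟨w * i * w⁻¹, ?_, w, P.mem_W.1 hw, by rw [inv_mul_cancel_right, e]⟩
    exact (Subgroup.mem_normalizer_iff.1 (Kill.W_le_normalizer_T P.V hw) i).1 (P.V.mem_T hi hiu)
  choose x hx w hw e using hdec
  let rot : WD F P.V.U →* ↥F.O :=
    { toFun := fun v => ⟨P.V.σ * v * P.V.σ⁻¹, (P.rot_mem v.2).1⟩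
      map_one' := Subtype.ext (by simp)
      map_mul' := fun a b => Subtype.ext (by simp [mul_assoc]) }
  let b : WD F P.V.U →* ℂˣ := f.comp rot
  have huniq : ∀ (o : F.O) (x' : G), x' ∈ P.V.T → ∀ w' : WD F P.V.U, (o : G) = x' * w' →
      b ⟨w o, hw o⟩ = b w' := by
    intro o x' hx' w' h
    have hd : (w' : G) * (w o)⁻¹ = x'⁻¹ * x o := by
      have h' : x o * w o = x' * w' := (e o).symm.trans h
      calc (w' : G) * (w o)⁻¹ = x'⁻¹ * (x' * w') * (w o)⁻¹ := by group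
        _ = _ := by rw [← h']; group
    have hT : ((w' * (⟨w o, hw o⟩ : WD F P.V.U)⁻¹ : WD F P.V.U) : G) ∈ P.V.T := by
      show (w' : G) * (w o)⁻¹ ∈ P.V.T
      rw [hd]; exact mul_mem (inv_mem hx') (hx o)
    have h1 : b (w' * (⟨w o, hw o⟩ : WD F P.V.U)⁻¹) = 1 :=
      hker ⟨_, hTO hT⟩ _ hT (w' * (⟨w o, hw o⟩ : WD F P.V.U)⁻¹).2 rfl
    rw [map_mul, map_inv, mul_inv_eq_one] at h1
    exact h1.symm
  let g : ↥F.O →* ℂˣ := MonoidHom.mk' (fun o => b ⟨w o, hw o⟩) fun o o' => by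
    have hwN : w o ∈ Subgroup.normalizer (P.V.T : Set G) := Kill.W_le_normalizer_T P.V (P.mem_W.2 (hw o))
    rw [← map_mul]
    refine huniq (o * o') (x o * (w o * x o' * (w o)⁻¹))
      (mul_mem (hx o) ((Subgroup.mem_normalizer_iff.1 hwN _).1 (hx o'))) _ ?_
    rw [Subgroup.coe_mul, e o, e o', Subgroup.coe_mul]
    group
  have hg : ∀ o, g o = b ⟨w o, hw o⟩ := fun _ => rfl
  refine ⟨g, fun u hu a c h => ?_, fun a c ha h => ?_⟩
  · have hconj : u * x a * u⁻¹ ∈ P.V.T := by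
      have hTU : P.V.U ≤ Subgroup.normalizer (P.V.T : Set G) := fun v hv => by
        refine Cfsg.Lib.GenDihedral.mem_normalizer_closure fun y hy => Subgroup.subset_closure ?_
        refine ⟨(Subgroup.mem_normalizer_iff.1 (P.V.U_le_normalizer_O hv) y).1 hy.1, ?_⟩
        have hc : P.V.u * v * P.V.u⁻¹ = v := by rw [P.V.U_comm P.V.u_mem_U hv, mul_inv_cancel_right]
        rw [← _root_.conj_mul, ← _root_.conj_mul, ← _root_.conj_inv, hc, hy.2]
        group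
      exact (Subgroup.mem_normalizer_iff.1 (hTU hu) _).1 (hx a)
    rw [hg, hg]
    refine huniq c (u * x a * u⁻¹) hconj ⟨w a, hw a⟩ ?_
    have hcw : u * w a * u⁻¹ = w a := by
      rw [(((mem_WD F P.t_mem).1 (hw a)).1 u hu).eq, mul_inv_cancel_right]
    calc (c : G) = u * x a * u⁻¹ * (u * w a * u⁻¹) := by rw [h, e a]; group
      _ = _ := by rw [hcw]
  · rw [hg, huniq a 1 (one_mem _) ⟨a, ha⟩ (one_mul _).symm]
    exact congrArg f (Subtype.ext h)

variable {M : Ideal AlgInt} [Fintype F.O]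

/-- The character of the fixed points. -/
noncomputable def linW [Fintype (WD F P.V.U)] (f : ↥F.O →* ℂˣ) : IrrCharacter (WD F P.V.U) :=
  ⟨fun v => ((f.comp (ιD F P.V.U)) v : ℂ), isIrrCharacter_linear _⟩

theorem rc_lin [Fintype (WD F P.V.U)] (f : ↥F.O →* ℂˣ) : RC M (ιD F P.V.U) (lin f) (linW P f) := fun _ => rfl

theorem twist_linW [Fintype (WD F P.V.U)] {f g : ↥F.O →* ℂˣ} (hg : IsLift P f g) :
    Glauberman.twist (conjWD F P.t_mem P.V.σ_mem) (linW P f) = linW P g :=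
  Subtype.ext (funext fun v => congrArg Units.val (hg.rot (ιD F P.V.U v) _ v.2 rfl).symm)

/-- The coefficients of the lift have the parity of those of `f`. -/
theorem lift_parity (hM : IsPModular 2 M) {f g : ↥F.O →* ℂˣ} (hg : IsLift P f g)
    (hf : InvD F F.S (lin f : F.O → ℂ)) (χ : IrrCharacter G) :
    (mu F χ (lin g) : Res M) = (mu F χ (lin f) : Res M) := by
  letI : Fintype (WD F P.V.U) := Fintype.ofFinite _
  exact res_mu_eq F hM P.U_le P.t_mem (fun u hu a b h => by rw [lin_apply, lin_apply, hg.inv u hu a b h])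
    (hf.mono F P.U_le) (rc_lin P g) (rc_lin P f) P.V.σ_mem (twist_linW P hg) χ

/-- A character with stabiliser the four-group, rotated from the invariant `f`, is a conjugate of the lift. -/
theorem rotated_eq (hM : IsPModular 2 M) (hn : F.n = 3) {f g : ↥F.O →* ℂˣ} (hg : IsLift P f g)
    (hf : InvD F F.S (lin f : F.O → ℂ)) {ζ : IrrCharacter F.O} [Fintype (WD F P.V.U)]
    (hζ : InvD F P.V.U (ζ : F.O → ℂ)) {β : IrrCharacter (WD F P.V.U)} (hβ : RC M (ιD F P.V.U) ζ β) {h : G}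
    (hhC : h ∉ F.C) (hc : Carry F (linW P f) β h) :
    ∃ (v : G) (hv : v ∈ F.S), ζ = Glauberman.twist (conjO F (F.S_le_C hv)) (lin g) := by
  obtain ⟨hhN, hval⟩ := hc
  have hσN := P.V.σ_mem
  have hSN := P.S_le_norm hn
  have htU : h * F.t * h⁻¹ ∈ P.V.U := (Subgroup.mem_normalizer_iff.1 hhN _).1 P.t_mem
  obtain ⟨w₀, hw₀, hct⟩ : ∃ w₀ ∈ F.S, P.V.σ⁻¹ * w₀⁻¹ * h ∈ F.C := by
    have key : ∀ w₀ ∈ F.S, h * F.t * h⁻¹ = w₀ * P.V.u * w₀⁻¹ → P.V.σ⁻¹ * w₀⁻¹ * h ∈ F.C := by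
      intro w₀ _ e
      refine F.mem_C.2 (mul_inv_eq_iff_eq_mul.1 ?_)
      have hs : P.V.σ⁻¹ * P.V.u * P.V.σ = F.t := by rw [← P.V.σ_t, P.t_eq]; group
      calc P.V.σ⁻¹ * w₀⁻¹ * h * F.t * (P.V.σ⁻¹ * w₀⁻¹ * h)⁻¹
          = P.V.σ⁻¹ * w₀⁻¹ * (h * F.t * h⁻¹) * w₀ * P.V.σ := by group
        _ = F.t := by
          rw [e]
          conv_rhs => rw [← hs]
          group
    rcases P.V.mem_U.1 htU with e | e | e | e
    · exact absurd (conj_eq_one_iff.1 e) (t_ne_one F)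
    · exact absurd (F.mem_C.2 (mul_inv_eq_iff_eq_mul.1 (e.trans P.t_eq))) hhC
    · exact ⟨1, one_mem _, key 1 (one_mem _) (by rw [e]; group)⟩
    · refine ⟨F.s, F.s_mem_S, key _ F.s_mem_S (e.trans ?_)⟩
      have hsu : F.s * P.V.u * F.s⁻¹ ∈ P.V.U :=
        (Subgroup.mem_normalizer_iff.1 (hSN F.s_mem_S) _).1 P.V.u_mem_U
      rcases P.V.mem_U.1 hsu with e' | e' | e' | e'
      · exact absurd (conj_eq_one_iff.1 e') fun he => by
          have := P.V.u_order; rw [he, orderOf_one] at this; omega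
      · exfalso
        have hts : F.s * F.t * F.s⁻¹ = P.V.t := by rw [F.S_comm_t F.s_mem_S, mul_inv_cancel_right, P.t_eq]
        exact P.V.t_ne_u ((mul_left_cancel (mul_right_cancel (e'.trans hts.symm))).trans P.t_eq.symm).symm
      · exact absurd e' P.s_move
      · exact e'.symm
  set c := P.V.σ⁻¹ * w₀⁻¹ * h with hc
  have hcN : c ∈ Subgroup.normalizer (P.V.U : Set G) := mul_mem (mul_mem (inv_mem hσN) (inv_mem (hSN hw₀))) hhN
  obtain ⟨l, hl, v, hv, e⟩ := F.C_structure c hct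
  have hlW : l ∈ WD F P.V.U := by
    have hlN : l ∈ Subgroup.normalizer (P.V.U : Set G) := by
      rw [show l = c * v⁻¹ by rw [e, mul_inv_cancel_right]]
      exact mul_mem hcN (inv_mem (hSN hv))
    refine Subgroup.mem_inf.2 ⟨hl, Subgroup.mem_centralizer_iff.2 fun d hd => ?_⟩
    have h5 : l * d * l⁻¹ * d⁻¹ ∈ F.O ⊓ F.S := by
      refine Subgroup.mem_inf.2 ⟨?_, mul_mem (P.U_le ((Subgroup.mem_normalizer_iff.1 hlN d).1 hd))
        (inv_mem (P.U_le hd))⟩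
      rw [show l * d * l⁻¹ * d⁻¹ = l * (d * l⁻¹ * d⁻¹) by group]
      exact mul_mem hl (conj_mem_O F (F.S_le_C (P.U_le hd)) (inv_mem hl))
    rw [F.O_inf_S, Subgroup.mem_bot, mul_inv_eq_one, mul_inv_eq_iff_eq_mul] at h5
    exact h5.symm
  refine ⟨v, hv, rcD_injective F hM P.U_le hζ
    (invD_twist F (fun u hu a b h => by rw [lin_apply, lin_apply, hg.inv u hu a b h]) (F.S_le_C hv) (hSN hv))
    hβ ?_⟩
  intro x
  rw [← hval x]
  set x' : WD F P.V.U := conjWD F P.t_mem (hSN hv) x with hx'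
  set L : WD F P.V.U := ⟨l, hlW⟩ with hL
  have hy : P.V.σ * ((L * x' * L⁻¹ : WD F P.V.U) : G) * P.V.σ⁻¹ ∈ WD F P.V.U := P.rot_mem (L * x' * L⁻¹).2
  have heq : h * (x : G) * h⁻¹ = w₀ * (P.V.σ * ((L * x' * L⁻¹ : WD F P.V.U) : G) * P.V.σ⁻¹) * w₀⁻¹ := by
    have hh : h = w₀ * P.V.σ * (l * v) := by rw [← e, hc]; group
    rw [hh, hx', hL]
    push_cast
    rw [conjWD_coe]
    group
  rw [heq, show w₀ * (P.V.σ * ((L * x' * L⁻¹ : WD F P.V.U) : G) * P.V.σ⁻¹) * w₀⁻¹ =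
    ((conjWD F P.t_mem (hSN hw₀) ⟨_, hy⟩ : WD F P.V.U) : G) from rfl, ext0_coe]
  refine congrArg _ ?_
  rw [Glauberman.twist_apply, lin_apply]
  refine congrArg Units.val ?_
  have h1 : f (ιD F P.V.U (conjWD F P.t_mem (hSN hw₀) ⟨_, hy⟩)) = f ⟨_, hy.1⟩ :=
    Units.ext (hf w₀ hw₀ ⟨_, hy.1⟩ _ rfl)
  show g _ = f (ιD F P.V.U _)
  rw [h1, ← hg.rot (ιD F P.V.U (L * x' * L⁻¹)) ⟨_, hy.1⟩ (L * x' * L⁻¹).2 rfl, map_mul, map_mul, map_inv,
    map_mul, map_mul, map_inv, mul_inv_cancel_comm]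
  rfl

end Cfsg.Lib.GWD.Chr
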